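import Mathlib
import Groth.Prelude.Def_Curv2
import Groth.Agent.Lib.Helper4.DimFT3

/-!
# helper2: base change of a scheme over a field to a large field is Jacobson (S7611)

For a `K`-algebra `B` with `Module.rank K B < #K` (and `K` infinite) the ring `B` is Jacobson
and the residue fields at maximal ideals are algebraic over `K` (the classical "uncountable field"
trick).  We apply it to the affine charts `R ⊗_k K` of `X_K`, with `κ` a cardinal larger than all
rings of sections over affine opens of `X`.
-/

set_option autoImplicit false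
set_option synthInstance.maxHeartbeats 400000
set_option maxHeartbeats 4000000
set_option linter.style.haveILetI false
set_option linter.unusedSectionVars false
set_option linter.unusedVariables false
set_option linter.unusedSimpArgs false
set_option linter.unnecessarySimpa false

universe u
open CategoryTheory CategoryTheory.Limits AlgebraicGeometry
open Groth.Agent.Lib.Helper4.NormFibre2 Groth.Agent.Lib.Helper4.RadBir3

attribute [local instance] Curv2.resAlgebra

namespace Groth.Agent.Helper2.CardJac

section Alg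

/-- A field extension of small rank over a big field is algebraic. -/
theorem isAlgebraic_of_rank_lt (K L : Type u) [Field K] [Field L] [Algebra K L]
    (h : Module.rank K L < Cardinal.mk K) : Algebra.IsAlgebraic K L := by
  refine ⟨fun x => ?_⟩
  by_contra hx
  have hx' : Transcendental K x := hx
  have hli := hx'.linearIndependent_sub_inv
  have h1 := hli.cardinal_le_rank
  exact absurd (lt_of_le_of_lt h1 h) (lt_irrefl _)

/-- A transcendental element `f` of a domain with all `f - a` (`a ≠ 0`) units forces big rank. -/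
theorem mk_le_rank_of_transcendental (K D L : Type u) [Field K] [Infinite K] [CommRing D]
    [Algebra K D] [Field L] [Algebra D L] [Algebra K L] [IsScalarTower K D L]
    (hinj : Function.Injective (algebraMap D L)) (f : D) (hf : Transcendental K f)
    (hunit : ∀ a : K, a ≠ 0 → IsUnit (f - algebraMap K D a)) :
    Cardinal.mk K ≤ Module.rank K D := by
  choose u hu using fun a : {a : K // a ≠ 0} => (hunit a.1 a.2).exists_right_inv
  have htr : Transcendental K (algebraMap D L f) := (transcendental_algebraMap_iff hinj).mpr hf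
  have hli := htr.linearIndependent_sub_inv
  have hli2 : LinearIndependent K
      (fun a : {a : K // a ≠ 0} => (algebraMap D L f - algebraMap K L a.1)⁻¹) :=
    hli.comp Subtype.val Subtype.val_injective
  have hfun : ((IsScalarTower.toAlgHom K D L).toLinearMap ∘ u) =
      (fun a : {a : K // a ≠ 0} => (algebraMap D L f - algebraMap K L a.1)⁻¹) := by
    funext a
    have h1 := congrArg (algebraMap D L) (hu a)
    rw [map_mul, map_sub, map_one, ← IsScalarTower.algebraMap_apply K D L] at h1
    exact eq_inv_of_mul_eq_one_right h1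
  have hli3 : LinearIndependent K ((IsScalarTower.toAlgHom K D L).toLinearMap ∘ u) := by
    rw [hfun]; exact hli2
  have hli4 : LinearIndependent K u := LinearIndependent.of_comp _ hli3
  have hcard := hli4.cardinal_le_rank
  have hmk : Cardinal.mk {a : K // a ≠ 0} = Cardinal.mk K := by
    have h1 : Cardinal.mk (({0} : Set K)ᶜ : Set K) = Cardinal.mk K := by
      apply Cardinal.mk_compl_of_infinite
      rw [Cardinal.mk_singleton]
      exact lt_of_lt_of_le Cardinal.one_lt_aleph0 (Cardinal.aleph0_le_mk K)
    exact h1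
  rw [← hmk]
  exact hcard

/-- The Jacobson radical of a domain of small rank over a big infinite field is zero. -/
theorem jacobson_bot_of_rank_lt (K D : Type u) [Field K] [Infinite K] [CommRing D] [IsDomain D]
    [Algebra K D] (h : Module.rank K D < Cardinal.mk K) : (⊥ : Ideal D).jacobson = ⊥ := by
  rw [eq_bot_iff]
  intro f hf
  rw [Ideal.mem_bot]
  by_contra hf0
  rw [Ideal.mem_jacobson_bot] at hf
  by_cases halg : IsAlgebraic K f
  · have hu : IsUnit f := halg.isIntegral.isUnit hf0
    obtain ⟨g, hg⟩ := hu.exists_right_inv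
    have h1 := hf (-g)
    rw [mul_neg, hg, neg_add_cancel] at h1
    exact not_isUnit_zero h1
  · have hunit : ∀ a : K, a ≠ 0 → IsUnit (f - algebraMap K D a) := by
      intro a ha
      have h1 := hf (algebraMap K D (-a⁻¹))
      have h2 : f - algebraMap K D a =
          algebraMap K D (-a) * (f * algebraMap K D (-a⁻¹) + 1) := by
        have h3 : algebraMap K D (-a) * algebraMap K D (-a⁻¹) = 1 := by
          rw [← map_mul, neg_mul_neg, mul_inv_cancel₀ ha, map_one]
        calc f - algebraMap K D a = f * (algebraMap K D (-a) * algebraMap K D (-a⁻¹)) +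
              algebraMap K D (-a) := by rw [h3, mul_one, map_neg, sub_eq_add_neg]
          _ = algebraMap K D (-a) * (f * algebraMap K D (-a⁻¹) + 1) := by ring
      rw [h2]
      exact ((isUnit_iff_ne_zero.mpr (neg_ne_zero.mpr ha)).map (algebraMap K D)).mul h1
    have h1 := mk_le_rank_of_transcendental K D (FractionRing D)
      (IsFractionRing.injective D (FractionRing D)) f halg hunit
    exact absurd (lt_of_le_of_lt h1 h) (lt_irrefl _)

/-- An algebra of small rank over a big infinite field is a Jacobson ring. -/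
theorem isJacobsonRing_of_rank_lt (K B : Type u) [Field K] [Infinite K] [CommRing B]
    [Algebra K B] (h : Module.rank K B < Cardinal.mk K) : IsJacobsonRing B := by
  rw [isJacobsonRing_iff_prime_eq]
  intro P hP
  rw [Ideal.jacobson_eq_iff_jacobson_quotient_eq_bot]
  haveI : IsDomain (B ⧸ P) := Ideal.Quotient.isDomain P
  apply jacobson_bot_of_rank_lt K (B ⧸ P)
  refine lt_of_le_of_lt ?_ h
  exact LinearMap.rank_le_of_surjective (Ideal.Quotient.mkₐ K P).toLinearMap
    Ideal.Quotient.mk_surjective

/-- In a pushout square of commutative rings `B = A ⊗_{R₀} S₀`, with `S₀` a quotient of a field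
`K`, the `K`-rank of `B` is at most the cardinality of `A`. -/
theorem rank_le_of_isPushout {R₀ A S₀ B : CommRingCat.{u}} {f : R₀ ⟶ A} {g : R₀ ⟶ S₀}
    {f' : A ⟶ B} {g' : S₀ ⟶ B} (h : IsPushout f g f' g') (K : Type u) [Field K]
    (e : K →+* S₀) (he : Function.Surjective e) :
    letI : Algebra K B := (g'.hom.comp e).toAlgebra
    Module.rank K B ≤ Cardinal.mk A := by
  letI : Algebra K B := (g'.hom.comp e).toAlgebra
  letI a1 : Algebra R₀ A := f.hom.toAlgebra
  letI a2 : Algebra R₀ S₀ := g.hom.toAlgebra
  letI a3 : Algebra A B := f'.hom.toAlgebra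
  letI a4 : Algebra S₀ B := g'.hom.toAlgebra
  letI a5 : Algebra R₀ B := (f ≫ f').hom.toAlgebra
  haveI t1 : IsScalarTower R₀ A B := IsScalarTower.of_algebraMap_eq (fun _ => rfl)
  haveI t2 : IsScalarTower R₀ S₀ B := IsScalarTower.of_algebraMap_eq (fun r => by
    have := congrArg (fun φ => φ.hom r) h.w
    exact this)
  have hp : Algebra.IsPushout R₀ A S₀ B := CommRingCat.isPushout_iff_isPushout.mp h
  have hp' : Algebra.IsPushout R₀ S₀ A B := hp.symm
  have hbc := hp'.out
  have hspan : Submodule.span K (Set.range f'.hom) = ⊤ := by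
    rw [eq_top_iff]
    intro b _
    refine hbc.inductionOn b (fun b => b ∈ Submodule.span K (Set.range f'.hom))
      (Submodule.zero_mem _) ?_ ?_ ?_
    · intro a
      exact Submodule.subset_span ⟨a, rfl⟩
    · intro s n hn
      obtain ⟨c, rfl⟩ := he s
      have h1 : (e c) • n = c • n := by
        rw [Algebra.smul_def, Algebra.smul_def]; rfl
      rw [h1]
      exact Submodule.smul_mem _ _ hn
    · intro n₁ n₂ h₁ h₂
      exact Submodule.add_mem _ h₁ h₂
  calc Module.rank K B = Module.rank K (⊤ : Submodule K B) := (rank_top K B).symm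
    _ = Module.rank K (Submodule.span K (Set.range f'.hom)) := by rw [hspan]
    _ ≤ Cardinal.mk (Set.range f'.hom) := rank_span_le _
    _ ≤ Cardinal.mk A := Cardinal.mk_range_le

end Alg

section Chart

/-- The structure map from a field to sections over an open of a scheme over it. -/
noncomputable def sMap {Y : Scheme.{u}} (K : Type u) [Field K]
    (q : Y ⟶ Spec (CommRingCat.of K)) (U : Y.Opens) : K →+* Γ(Y, U) :=
  (q.appLE ⊤ U le_top).hom.comp (Scheme.ΓSpecIso (CommRingCat.of K)).inv.hom

theorem resMap_eq' {Y : Scheme.{u}} (K : Type u) [Field K] (q : Y ⟶ Spec (CommRingCat.of K))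
    {U : Y.Opens} (x : Y) (hx : x ∈ U) :
    letI : Y.Over (Spec (CommRingCat.of K)) := ⟨q⟩
    Curv2.resMap K Y x = (rho x hx).comp (sMap K q U) := by
  letI : Y.Over (Spec (CommRingCat.of K)) := ⟨q⟩
  unfold Curv2.resMap Curv2.stalkMap rho sMap
  rw [← TopCat.Presheaf.germ_res Y.presheaf (homOfLE (le_top : U ≤ ⊤)) x hx]
  rfl

theorem isAlgebraic_residue {Y : Scheme.{u}} (K : Type u) [Field K]
    (q : Y ⟶ Spec (CommRingCat.of K)) {U : Y.Opens} (hU : IsAffineOpen U) (x : Y) (hxU : x ∈ U)
    (hx : IsClosed ({x} : Set Y))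
    (hrank : letI := (sMap K q U).toAlgebra; Module.rank K Γ(Y, U) < Cardinal.mk K) :
    letI : Y.Over (Spec (CommRingCat.of K)) := ⟨q⟩
    Algebra.IsAlgebraic K (Y.residueField x) := by
  letI : Y.Over (Spec (CommRingCat.of K)) := ⟨q⟩
  letI algB : Algebra K Γ(Y, U) := (sMap K q U).toAlgebra
  have hmax : (hU.primeIdealOf ⟨x, hxU⟩).asIdeal.IsMaximal :=
    hU.primeIdealOf_isMaximal_of_isClosed ⟨x, hxU⟩ hx
  have hsurj : Function.Surjective (rho x hxU) := by
    intro c
    obtain ⟨s, a, hs, hsa⟩ := exists_frac_rho hU x hxU c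
    obtain ⟨s', i, hi, hs'⟩ := hmax.exists_inv hs
    have hi0 : rho x hxU i = 0 := by
      have h1 : i ∈ RingHom.ker (rho x hxU) := by rw [ker_rho hU x hxU]; exact hi
      exact h1
    have h1 : rho x hxU s' * rho x hxU s = 1 := by
      have h2 := congrArg (rho x hxU) hs'
      rw [map_add, map_mul, hi0, add_zero, map_one] at h2
      exact h2
    refine ⟨s' * a, ?_⟩
    rw [map_mul, ← hsa, ← mul_assoc, h1, one_mul]
  let φ : Γ(Y, U) →ₐ[K] Y.residueField x :=
    { (rho x hxU) with
      commutes' := fun c => (RingHom.congr_fun (resMap_eq' K q x hxU) c).symm }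
  have hle : Module.rank K (Y.residueField x) ≤ Module.rank K Γ(Y, U) :=
    LinearMap.rank_le_of_surjective φ.toLinearMap hsurj
  exact isAlgebraic_of_rank_lt K _ (lt_of_le_of_lt hle hrank)

end Chart

section Geom

variable (k : Type u) [Field k] (X : Scheme.{u}) [X.Over (Spec (CommRingCat.of k))]
  (K : Type u) [Field K] [Algebra k K]

/-- The open of the base change lying over an open of `X`. -/
noncomputable def UY (UX : X.Opens) : (Curv2.bc k X K).Opens :=
  (Curv2.bcFst k X K) ⁻¹ᵁ UX ⊓ (Curv2.bcSnd k X K) ⁻¹ᵁ ⊤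

theorem isPullback_bc :
    IsPullback (Curv2.bcFst k X K) (Curv2.bcSnd k X K) (X ↘ Spec (CommRingCat.of k))
      (Spec.map (CommRingCat.ofHom (algebraMap k K))) :=
  IsPullback.of_hasPullback _ _

theorem isAffineOpen_UY {UX : X.Opens} (hUX : IsAffineOpen UX) :
    IsAffineOpen (UY k X K UX) := by
  have H := isPullback_bc k X K
  have hUS : IsAffineOpen (⊤ : (Spec (CommRingCat.of k)).Opens) := isAffineOpen_top _
  have hUT : IsAffineOpen (⊤ : (Spec (CommRingCat.of K)).Opens) := isAffineOpen_top _
  haveI : IsAffine (⊤ : (Spec (CommRingCat.of k)).Opens).toScheme := hUS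
  haveI : IsAffine (⊤ : (Spec (CommRingCat.of K)).Opens).toScheme := hUT
  haveI : IsAffine UX.toScheme := hUX
  exact .of_isIso (Scheme.Hom.isPullback_resLE H (US := ⊤) (UT := ⊤) (UX := UX)
    (UY := UY k X K UX) le_top le_top rfl).isoPullback.hom

theorem isPushout_sections {UX : X.Opens} (hUX : IsAffineOpen UX) :
    IsPushout ((X ↘ Spec (CommRingCat.of k)).appLE ⊤ UX le_top)
      ((Spec.map (CommRingCat.ofHom (algebraMap k K))).appLE ⊤ ⊤ le_top)
      ((Curv2.bcFst k X K).appLE UX (UY k X K UX) inf_le_left)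
      ((Curv2.bcSnd k X K).appLE ⊤ (UY k X K UX) le_top) :=
  (isIso_pushoutSection_iff (isPullback_bc k X K) (US := ⊤) (UT := ⊤) (UX := UX)
    (UY := UY k X K UX) le_top le_top rfl).mp
    (isIso_pushoutSection_of_isAffineOpen (isPullback_bc k X K) le_top le_top rfl
      (isAffineOpen_top _) (isAffineOpen_top _) hUX)

theorem rank_sections_le {UX : X.Opens} (hUX : IsAffineOpen UX) :
    letI := (sMap K (Curv2.bcSnd k X K) (UY k X K UX)).toAlgebra
    Module.rank K Γ(Curv2.bc k X K, UY k X K UX) ≤ Cardinal.mk Γ(X, UX) :=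
  rank_le_of_isPushout (isPushout_sections k X K hUX) K
    (Scheme.ΓSpecIso (CommRingCat.of K)).inv.hom
    (ConcreteCategory.bijective_of_isIso (Scheme.ΓSpecIso (CommRingCat.of K)).inv).2

theorem jacobsonSpace_of_isAffineOpen {Y : Scheme.{u}} {U : Y.Opens} (hU : IsAffineOpen U)
    [IsJacobsonRing Γ(Y, U)] : JacobsonSpace ↥U := by
  have h1 : JacobsonSpace ↥(U.toScheme) :=
    .of_isClosedEmbedding (Scheme.homeoOfIso hU.isoSpec).isClosedEmbedding
  exact h1

end Geom

theorem main7611 (k : Type u) [Field k] (X : Scheme.{u}) [X.Over (Spec (CommRingCat.of k))] :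
    ∃ κ : Cardinal.{u}, ∀ (K : Type u) [Field K] [Algebra k K], κ ≤ Cardinal.mk K →
      JacobsonSpace ↥(Curv2.bc k X K) ∧
        ∀ x : ↥(Curv2.bc k X K), IsClosed ({x} : Set ↥(Curv2.bc k X K)) →
          letI : (Curv2.bc k X K).Over (Spec (CommRingCat.of K)) := ⟨Curv2.bcSnd k X K⟩
          Algebra.IsAlgebraic K ((Curv2.bc k X K).residueField x) := by
  refine ⟨Order.succ (max Cardinal.aleph0
    (Cardinal.sum fun U : X.affineOpens => Cardinal.mk Γ(X, U.1))), ?_⟩
  intro K _ _ hκ
  have hinf : Infinite K := by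
    rw [Cardinal.infinite_iff]
    exact le_trans (le_trans (le_max_left _ _) (Order.le_succ _)) hκ
  have hlt : ∀ U : X.affineOpens, Cardinal.mk Γ(X, U.1) < Cardinal.mk K := by
    intro U
    refine lt_of_lt_of_le ?_ hκ
    rw [Order.lt_succ_iff]
    exact le_trans (Cardinal.le_sum (fun U : X.affineOpens => Cardinal.mk Γ(X, U.1)) U)
      (le_max_right _ _)
  have hrank : ∀ U : X.affineOpens,
      letI := (sMap K (Curv2.bcSnd k X K) (UY k X K U.1)).toAlgebra
      Module.rank K Γ(Curv2.bc k X K, UY k X K U.1) < Cardinal.mk K :=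
    fun U => lt_of_le_of_lt (rank_sections_le k X K U.2) (hlt U)
  have hcover : ∀ y : Curv2.bc k X K, ∃ U : X.affineOpens, y ∈ UY k X K U.1 := by
    intro y
    obtain ⟨U, hU, hy, -⟩ := exists_isAffineOpen_mem_and_subset (U := (⊤ : X.Opens))
      (x := Curv2.bcFst k X K y) trivial
    exact ⟨⟨U, hU⟩, ⟨hy, trivial⟩⟩
  constructor
  · have hoc : TopologicalSpace.IsOpenCover (fun U : X.affineOpens => UY k X K U.1) := by
      apply TopologicalSpace.IsOpenCover.mk
      rw [eq_top_iff]
      intro y _
      obtain ⟨U, hU⟩ := hcover y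
      exact TopologicalSpace.Opens.mem_iSup.mpr ⟨U, hU⟩
    rw [hoc.jacobsonSpace_iff]
    intro U
    letI := (sMap K (Curv2.bcSnd k X K) (UY k X K U.1)).toAlgebra
    haveI : IsJacobsonRing Γ(Curv2.bc k X K, UY k X K U.1) :=
      isJacobsonRing_of_rank_lt K _ (hrank U)
    exact jacobsonSpace_of_isAffineOpen (isAffineOpen_UY k X K U.2)
  · intro x hx
    obtain ⟨U, hxU⟩ := hcover x
    exact isAlgebraic_residue K (Curv2.bcSnd k X K) (isAffineOpen_UY k X K U.2) x hxU hx
      (hrank U)

end Groth.Agent.Helper2.CardJac
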